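import Cfsg.Agent.H93.Th.Low3Proof
import Cfsg.Agent.H93.Th.Low3.C0
import Cfsg.Agent.H93.Th.Low3.C1
import Cfsg.Agent.H93.Th.Low3.C2

/-!
3^10 divides the order of the Thompson group of matrices.
-/

set_option autoImplicit false

namespace H93
namespace Th

theorem three_part : 59049 ∣ Nat.card rho.range :=
  three_part_of
    (fun i hi => by
      rcases i with _ | _ | _ | i
      · exact low3Lit0_ok
      · exact low3Lit1_ok
      · exact low3Lit2_ok
      · omega)
    (fun i hi => by
      rcases i with _ | _ | _ | i
      · exact low3Tri0_ok
      · exact low3Tri1_ok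
      · exact low3Tri2_ok
      · omega)
    low3Basis_ok low3Chain_ok

end Th
end H93
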