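import Cfsg.Prelude.Def_Spor_Th
import Cfsg.Agent.H77.HN.Words

/-!
The relators of the Thompson presentation which involve `u`, as lists of numbered letters.
-/

set_option autoImplicit false

namespace H93
namespace Th

open Cfsg

/-- the image of a word -/
abbrev im : FreeGroup Spor.Th.Gen →* Spor.Th :=
  PresentedGroup.mk (Spor.coxRelators Spor.Th.edges ∪ {r | r ∈ Spor.Th.extra})

theorem rel_one {r : FreeGroup Spor.Th.Gen} (h : r ∈ Spor.Th.extra) : im r = 1 :=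
  PresentedGroup.one_of_mem (Or.inr h)

/-- codes: 0 is `u`, 1 is its inverse, then a b c d e s s⁻¹ t t⁻¹ -/
def code : ℕ → Spor.Th
  | 0 => im Spor.Th.u
  | 1 => (im Spor.Th.u)⁻¹
  | 2 => im Spor.Th.a
  | 3 => im Spor.Th.b
  | 4 => im Spor.Th.c
  | 5 => im Spor.Th.d
  | 6 => im Spor.Th.e
  | 7 => im Spor.Th.s
  | 8 => (im Spor.Th.s)⁻¹
  | 9 => im Spor.Th.t
  | 10 => (im Spor.Th.t)⁻¹
  | _ => 1

theorem inv_a : (im Spor.Th.a)⁻¹ = im Spor.Th.a :=
  inv_eq_of_mul_eq_one_right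
    (by rw [← map_mul, ← pow_two]; exact rel_one (by simp [Spor.Th.extra]))
theorem inv_b : (im Spor.Th.b)⁻¹ = im Spor.Th.b :=
  inv_eq_of_mul_eq_one_right
    (by rw [← map_mul, ← pow_two]; exact rel_one (by simp [Spor.Th.extra]))
theorem inv_c : (im Spor.Th.c)⁻¹ = im Spor.Th.c :=
  inv_eq_of_mul_eq_one_right
    (by rw [← map_mul, ← pow_two]; exact rel_one (by simp [Spor.Th.extra]))
theorem inv_d : (im Spor.Th.d)⁻¹ = im Spor.Th.d :=
  inv_eq_of_mul_eq_one_right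
    (by rw [← map_mul, ← pow_two]; exact rel_one (by simp [Spor.Th.extra]))
theorem inv_e : (im Spor.Th.e)⁻¹ = im Spor.Th.e :=
  inv_eq_of_mul_eq_one_right
    (by rw [← map_mul, ← pow_two]; exact rel_one (by simp [Spor.Th.extra]))

theorem evw_inv_code (w : List ℕ) :
    H77.HN.evw (fun c => (code c)⁻¹) w = ((w.map code).prod)⁻¹ := by
  induction w with
  | nil => simp
  | cons l w ih => simp [ih]

/-- the relators with `u` -/
def urels : List (List ℕ) :=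
  [[0, 0, 4, 2],
   [1, 2, 0, 2],
   [1, 4, 0, 4],
   [1, 6, 0, 6],
   [5, 6, 1, 5, 0, 5, 6, 1, 5, 0],
   [1, 3, 4, 2, 3, 0, 3, 2, 4, 3, 6],
   [5, 1, 5, 3, 4, 2, 3, 5, 0, 5, 3, 2, 4, 3, 4, 6, 5, 1, 5, 3, 4, 2, 3, 6, 1],
   [1, 9, 0, 9],
   [6, 8, 8, 1, 7, 7, 6, 8, 8, 0, 7, 7],
   [2, 4, 8, 1, 8, 1, 8, 1],
   [2, 4, 8, 1, 7, 0, 8, 1, 7, 0, 8, 1, 7, 0, 8, 1, 7, 0],
   [5, 8, 8, 0, 7, 7, 5, 8, 8, 0, 7, 7, 5, 8, 8, 0, 7, 7, 5, 8, 8, 0, 7, 7, 8, 8, 6, 5, 4, 5, 6, 7, 7, 7, 6, 5, 4, 5, 6, 8, 5, 4, 5, 4, 2]]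

theorem urel0 : (([0, 0, 4, 2] : List ℕ).map code).prod = 1 := by
  have h := rel_one (r := (Spor.Th.u ^ 2) * ((Spor.Th.a * Spor.Th.c)⁻¹)) (by simp [Spor.Th.extra])
  simp only [map_mul, map_inv, map_pow, pow_succ, pow_zero, one_mul, mul_inv_rev, inv_inv, mul_assoc,
    inv_a, inv_b, inv_c, inv_d, inv_e] at h
  simp only [List.map_cons, List.map_nil, List.prod_cons, List.prod_nil, mul_one, code]
  exact h

theorem urel1 : (([1, 2, 0, 2] : List ℕ).map code).prod = 1 := by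
  have h := rel_one (r := Spor.Th.u⁻¹ * Spor.Th.a⁻¹ * Spor.Th.u * Spor.Th.a) (by simp [Spor.Th.extra])
  simp only [map_mul, map_inv, map_pow, pow_succ, pow_zero, one_mul, mul_inv_rev, inv_inv, mul_assoc,
    inv_a, inv_b, inv_c, inv_d, inv_e] at h
  simp only [List.map_cons, List.map_nil, List.prod_cons, List.prod_nil, mul_one, code]
  exact h

theorem urel2 : (([1, 4, 0, 4] : List ℕ).map code).prod = 1 := by
  have h := rel_one (r := Spor.Th.u⁻¹ * Spor.Th.c⁻¹ * Spor.Th.u * Spor.Th.c) (by simp [Spor.Th.extra])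
  simp only [map_mul, map_inv, map_pow, pow_succ, pow_zero, one_mul, mul_inv_rev, inv_inv, mul_assoc,
    inv_a, inv_b, inv_c, inv_d, inv_e] at h
  simp only [List.map_cons, List.map_nil, List.prod_cons, List.prod_nil, mul_one, code]
  exact h

theorem urel3 : (([1, 6, 0, 6] : List ℕ).map code).prod = 1 := by
  have h := rel_one (r := Spor.Th.u⁻¹ * Spor.Th.e⁻¹ * Spor.Th.u * Spor.Th.e) (by simp [Spor.Th.extra])
  simp only [map_mul, map_inv, map_pow, pow_succ, pow_zero, one_mul, mul_inv_rev, inv_inv, mul_assoc,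
    inv_a, inv_b, inv_c, inv_d, inv_e] at h
  simp only [List.map_cons, List.map_nil, List.prod_cons, List.prod_nil, mul_one, code]
  exact h

theorem urel4 : (([5, 6, 1, 5, 0, 5, 6, 1, 5, 0] : List ℕ).map code).prod = 1 := by
  have h := rel_one (r := (Spor.Th.d * Spor.Th.e * (Spor.Th.u⁻¹ * Spor.Th.d * Spor.Th.u)) ^ 2) (by simp [Spor.Th.extra])
  simp only [map_mul, map_inv, map_pow, pow_succ, pow_zero, one_mul, mul_inv_rev, inv_inv, mul_assoc,
    inv_a, inv_b, inv_c, inv_d, inv_e] at h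
  simp only [List.map_cons, List.map_nil, List.prod_cons, List.prod_nil, mul_one, code]
  exact h

theorem urel5 : (([1, 3, 4, 2, 3, 0, 3, 2, 4, 3, 6] : List ℕ).map code).prod = 1 := by
  have h := rel_one (r := (Spor.Th.u⁻¹ * (Spor.Th.b⁻¹ * (Spor.Th.a * Spor.Th.c) * Spor.Th.b)⁻¹ * Spor.Th.u * (Spor.Th.b⁻¹ * (Spor.Th.a * Spor.Th.c) * Spor.Th.b)) * (Spor.Th.e⁻¹)) (by simp [Spor.Th.extra])
  simp only [map_mul, map_inv, map_pow, pow_succ, pow_zero, one_mul, mul_inv_rev, inv_inv, mul_assoc,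
    inv_a, inv_b, inv_c, inv_d, inv_e] at h
  simp only [List.map_cons, List.map_nil, List.prod_cons, List.prod_nil, mul_one, code]
  exact h

theorem urel6 : (([5, 1, 5, 3, 4, 2, 3, 5, 0, 5, 3, 2, 4, 3, 4, 6, 5, 1, 5, 3, 4, 2, 3, 6, 1] : List ℕ).map code).prod = 1 := by
  have h := rel_one (r := ((Spor.Th.d⁻¹ * Spor.Th.u * Spor.Th.d)⁻¹ * (Spor.Th.b⁻¹ * (Spor.Th.a * Spor.Th.c) * Spor.Th.b)⁻¹ * (Spor.Th.d⁻¹ * Spor.Th.u * Spor.Th.d) * (Spor.Th.b⁻¹ * (Spor.Th.a * Spor.Th.c) * Spor.Th.b)) * ((Spor.Th.u * Spor.Th.e * (Spor.Th.b⁻¹ * (Spor.Th.a * Spor.Th.c) * Spor.Th.b) * (Spor.Th.d⁻¹ * Spor.Th.u * Spor.Th.d) * Spor.Th.e * Spor.Th.c)⁻¹)) (by simp [Spor.Th.extra])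
  simp only [map_mul, map_inv, map_pow, pow_succ, pow_zero, one_mul, mul_inv_rev, inv_inv, mul_assoc,
    inv_a, inv_b, inv_c, inv_d, inv_e] at h
  simp only [List.map_cons, List.map_nil, List.prod_cons, List.prod_nil, mul_one, code]
  exact h

theorem urel7 : (([1, 9, 0, 9] : List ℕ).map code).prod = 1 := by
  have h := rel_one (r := (Spor.Th.u⁻¹ * Spor.Th.t * Spor.Th.u) * ((Spor.Th.t⁻¹)⁻¹)) (by simp [Spor.Th.extra])
  simp only [map_mul, map_inv, map_pow, pow_succ, pow_zero, one_mul, mul_inv_rev, inv_inv, mul_assoc,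
    inv_a, inv_b, inv_c, inv_d, inv_e] at h
  simp only [List.map_cons, List.map_nil, List.prod_cons, List.prod_nil, mul_one, code]
  exact h

theorem urel8 : (([6, 8, 8, 1, 7, 7, 6, 8, 8, 0, 7, 7] : List ℕ).map code).prod = 1 := by
  have h := rel_one (r := Spor.Th.e⁻¹ * ((Spor.Th.s ^ 2)⁻¹ * Spor.Th.u * (Spor.Th.s ^ 2))⁻¹ * Spor.Th.e * ((Spor.Th.s ^ 2)⁻¹ * Spor.Th.u * (Spor.Th.s ^ 2))) (by simp [Spor.Th.extra])
  simp only [map_mul, map_inv, map_pow, pow_succ, pow_zero, one_mul, mul_inv_rev, inv_inv, mul_assoc,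
    inv_a, inv_b, inv_c, inv_d, inv_e] at h
  simp only [List.map_cons, List.map_nil, List.prod_cons, List.prod_nil, mul_one, code]
  exact h

theorem urel9 : (([2, 4, 8, 1, 8, 1, 8, 1] : List ℕ).map code).prod = 1 := by
  have h := rel_one (r := (Spor.Th.a * Spor.Th.c) * (((Spor.Th.u * Spor.Th.s) ^ 3)⁻¹)) (by simp [Spor.Th.extra])
  simp only [map_mul, map_inv, map_pow, pow_succ, pow_zero, one_mul, mul_inv_rev, inv_inv, mul_assoc,
    inv_a, inv_b, inv_c, inv_d, inv_e] at h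
  simp only [List.map_cons, List.map_nil, List.prod_cons, List.prod_nil, mul_one, code]
  exact h

theorem urel10 : (([2, 4, 8, 1, 7, 0, 8, 1, 7, 0, 8, 1, 7, 0, 8, 1, 7, 0] : List ℕ).map code).prod = 1 := by
  have h := rel_one (r := (Spor.Th.a * Spor.Th.c) * (((Spor.Th.u⁻¹ * Spor.Th.s⁻¹ * Spor.Th.u * Spor.Th.s) ^ 4)⁻¹)) (by simp [Spor.Th.extra])
  simp only [map_mul, map_inv, map_pow, pow_succ, pow_zero, one_mul, mul_inv_rev, inv_inv, mul_assoc,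
    inv_a, inv_b, inv_c, inv_d, inv_e] at h
  simp only [List.map_cons, List.map_nil, List.prod_cons, List.prod_nil, mul_one, code]
  exact h

theorem urel11 : (([5, 8, 8, 0, 7, 7, 5, 8, 8, 0, 7, 7, 5, 8, 8, 0, 7, 7, 5, 8, 8, 0, 7, 7, 8, 8, 6, 5, 4, 5, 6, 7, 7, 7, 6, 5, 4, 5, 6, 8, 5, 4, 5, 4, 2] : List ℕ).map code).prod = 1 := by
  have h := rel_one (r := ((Spor.Th.d * ((Spor.Th.s ^ 2)⁻¹ * Spor.Th.u * (Spor.Th.s ^ 2))) ^ 4) * ((Spor.Th.a * Spor.Th.c * (Spor.Th.d⁻¹ * Spor.Th.c * Spor.Th.d) * ((Spor.Th.d * Spor.Th.e * (Spor.Th.s⁻¹))⁻¹ * Spor.Th.c * (Spor.Th.d * Spor.Th.e * (Spor.Th.s⁻¹))) * ((Spor.Th.d * Spor.Th.e * (Spor.Th.s ^ 2))⁻¹ * Spor.Th.c * (Spor.Th.d * Spor.Th.e * (Spor.Th.s ^ 2))))⁻¹)) (by simp [Spor.Th.extra])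
  simp only [map_mul, map_inv, map_pow, pow_succ, pow_zero, one_mul, mul_inv_rev, inv_inv, mul_assoc,
    inv_a, inv_b, inv_c, inv_d, inv_e] at h
  simp only [List.map_cons, List.map_nil, List.prod_cons, List.prod_nil, mul_one, code]
  exact h

theorem urels_one {w : List ℕ} (hw : w ∈ urels) : (w.map code).prod = 1 := by
  simp only [urels, List.mem_cons, List.not_mem_nil, or_false] at hw
  rcases hw with rfl | rfl | rfl | rfl | rfl | rfl | rfl | rfl | rfl | rfl | rfl | rfl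
  · exact urel0
  · exact urel1
  · exact urel2
  · exact urel3
  · exact urel4
  · exact urel5
  · exact urel6
  · exact urel7
  · exact urel8
  · exact urel9
  · exact urel10
  · exact urel11

end Th
end H93
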