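import Mathlib
import Cfsg.Agent.H77.HN.Words
import Cfsg.Agent.H93.CI.Table

/-!
A homomorphism is injective when it separates a family of conjugates which the points label
equivariantly.
-/

set_option autoImplicit false

namespace H93
namespace Th

open H77.HN (evw run runK agree Rep)

variable {P : Type*} [Group P] {gen : ℕ → P} {n : ℕ} {T : ℕ → ℕ → ℕ}

/-- conjugation by the letters permutes the labelled elements as the table says -/
noncomputable def equivRow (T : ℕ → ℕ → ℕ) (B : List ℕ) (iv : ℕ → ℕ) (Z : ℕ → List ℕ) (l : ℕ)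
    (lo len : ℕ) : Bool :=
  (List.range len).all fun j => agree T B (iv l :: (Z (lo + j) ++ [l])) (Z (T l (lo + j)))

theorem injective_of_table (R : Rep gen n T) {B : List ℕ} (hB : R.IsBase B) (iv : ℕ → ℕ)
    (hiv : ∀ l, gen (iv l) = (gen l)⁻¹) (ls : List ℕ)
    (hgen : Subgroup.closure (gen '' {l | l ∈ ls}) = ⊤) (Z : ℕ → List ℕ)
    (hZ : ∀ l ∈ ls, ∀ p < n, agree T B (iv l :: (Z p ++ [l])) (Z (T l p)) = true)
    {G : Type*} [Group G] (f : P →* G) {α : Type*} (key : G → α)
    (hkey : ∀ p q : Fin n, key (f (evw gen (Z p))) = key (f (evw gen (Z q))) → p = q) :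
    Function.Injective f := by
  rw [injective_iff_map_eq_one]
  intro m hm
  have key2 : ∀ g : P, ∀ p : Fin n,
      g * evw gen (Z p) * g⁻¹ = evw gen (Z (R.φ g p : Fin n)) := by
    intro g
    have hg : g ∈ Subgroup.closure (gen '' {l | l ∈ ls}) := hgen ▸ Subgroup.mem_top g
    induction hg using Subgroup.closure_induction with
    | mem x hx =>
      obtain ⟨l, hl, rfl⟩ := hx
      intro p
      have h := R.evw_eq_of_agree hB (hZ l hl p p.2)
      simp only [H77.HN.evw_cons, H77.HN.evw_append, H77.HN.evw_nil, one_mul, hiv] at h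
      rw [R.spec]
      exact h
    | one => simp
    | mul a b _ _ ha hb =>
      intro p
      rw [map_mul, Equiv.Perm.mul_apply, ← ha, ← hb]
      group
    | inv a _ ha =>
      intro p
      have h := ha ((R.φ a)⁻¹ p)
      rw [show R.φ a ((R.φ a)⁻¹ p) = p from (R.φ a).apply_symm_apply p] at h
      rw [map_inv, ← h]
      group
  refine hB.2 m fun p _ => ?_
  refine (hkey p (R.φ m p) ?_).symm
  rw [← key2 m p]
  simp [hm]

theorem equivRow_spec {T : ℕ → ℕ → ℕ} {B : List ℕ} {iv : ℕ → ℕ} {Z : ℕ → List ℕ} {l lo len : ℕ}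
    (h : equivRow T B iv Z l lo len = true) {p : ℕ} (h1 : lo ≤ p) (h2 : p < lo + len) :
    agree T B (iv l :: (Z p ++ [l])) (Z (T l p)) = true := by
  simp only [equivRow, List.all_eq_true, List.mem_range] at h
  have h3 := h (p - lo) (by omega)
  rwa [Nat.add_sub_cancel' h1] at h3

/-- conjugating membership and one identity in a bigger group fix the value -/
theorem twist_of_mem {G H : Type*} [Group G] [Group H] (ι : P →* G) (ρ : G →* H)
    (hinj : Function.Injective (ρ.comp ι)) {u : G} {h h' : P}
    (hmem : u⁻¹ * ι h * u ∈ ι.range) (hval : ρ (ι h) * ρ u = ρ u * ρ (ι h')) :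
    ι h * u = u * ι h' := by
  obtain ⟨m, hm⟩ := hmem
  have : m = h' := hinj (by
    show ρ (ι m) = ρ (ι h')
    rw [hm, map_mul, map_mul, map_inv, mul_assoc, hval, inv_mul_cancel_left])
  subst this
  rw [hm]
  group

end Th
end H93
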