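import Mathlib
import Cfsg.Agent.H22.Th.Simple

/-!
A homomorphism on the group generated by a, ..., t which does not kill `a` is injective.
-/

set_option autoImplicit false

namespace H93
namespace Th

open H22Th (P x Lsub)

theorem index_Lsub : (Lsub : Subgroup P).index = 3 := by
  have h := Subgroup.card_mul_index (Lsub : Subgroup P)
  rw [H22Th.card_Lsub, H22Th.card_P] at h
  omega

theorem injective_of_a {H : Type*} [Group H] (f : P →* H) (ha : f (x 0) ≠ 1) :
    Function.Injective f := by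
  rw [← MonoidHom.ker_eq_bot_iff]
  have hsimp := H22Th.Lsub_simple
  have hbot : f.ker.subgroupOf Lsub = ⊥ := by
    refine ((MonoidHom.normal_ker f).subgroupOf Lsub).eq_bot_or_eq_top.resolve_right fun h => ha ?_
    have h2 : (⟨x 0, H22Th.x_mem (by decide)⟩ : Lsub) ∈ f.ker.subgroupOf Lsub := by
      rw [h]; exact Subgroup.mem_top _
    exact h2
  have hcard : Nat.card (P ⧸ Lsub) = 3 := by
    rw [← Subgroup.index_eq_card]; exact index_Lsub
  have : Fact (Nat.Prime 3) := ⟨Nat.prime_three⟩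
  have : IsCyclic (P ⧸ Lsub) := isCyclic_of_prime_card hcard
  rw [eq_bot_iff, ← H22Th.center_eq_bot]
  intro k hk
  rw [Subgroup.mem_center_iff]
  intro n
  have h1 : k * n * k⁻¹ * n⁻¹ ∈ Lsub := by
    rw [← QuotientGroup.eq_one_iff]
    simp only [QuotientGroup.mk_mul, QuotientGroup.mk_inv]
    rw [IsCyclic.commGroup.mul_comm (k : P ⧸ Lsub) (n : P ⧸ Lsub)]
    group
  have h2 : k * n * k⁻¹ * n⁻¹ ∈ f.ker := by
    rw [MonoidHom.mem_ker] at hk ⊢
    simp [hk]
  have h3 : (⟨_, h1⟩ : Lsub) ∈ f.ker.subgroupOf Lsub := h2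
  rw [hbot, Subgroup.mem_bot, Subtype.ext_iff] at h3
  have h4 : k * n * k⁻¹ * n⁻¹ = 1 := h3
  rw [mul_inv_eq_one, mul_inv_eq_iff_eq_mul] at h4
  exact h4.symm

end Th
end H93
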