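import Mathlib
import Cfsg.Agent.H62.Th.Word

/-!
The conjugate of `dcd` by `u` in the matrix group.
-/

set_option autoImplicit false
set_option maxRecDepth 100000
set_option Elab.async false

namespace H93
namespace Th

open H62.Th (sameC code)

/-- `dcd·u` -/
def twLeft : List ℕ := [3, 2, 3, 7]

/-- `u·bacbdcdedcdbcdabcd` -/
def twRight : List ℕ := [7, 1, 0, 2, 1, 3, 2, 3, 4, 3, 2, 3, 1, 2, 3, 0, 1, 2, 3]

theorem dcd_check : sameC code twLeft twRight = true := by decide +kernel

end Th
end H93
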