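import Mathlib
import Cfsg.Agent.H22.Th.Member
import Cfsg.Agent.H62.Th.GenOK
import Cfsg.Agent.H93.Th.Inj
import Cfsg.Agent.H93.Th.Inj2
import Cfsg.Agent.H93.Th.TwistChk

/-!
The value of `u⁻¹ (dcd) u` in the presented Thompson group, read off from a matrix representation.
-/

set_option autoImplicit false
set_option maxRecDepth 100000

namespace H93
namespace Th

open Cfsg
open H62.Th (Mat matOf idx sameC sameC_spec checkGen Rep rep_matOf fz_eq)

theorem okCode_of_checkGen {g : ℕ} (h : checkGen g = true) : H62.Th.okCode (H62.Th.code g) = true := by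
  simp only [checkGen, fz_eq, Bool.and_eq_true] at h
  exact h.1

attribute [local irreducible] H62.Th.code H62.Th.matOf H62.Th.oneC H62.Th.okCode

theorem rep_code {g : ℕ} (hg : g < 8) : Rep (H62.Th.code g) (matOf (H62.Th.code g)) := by
  refine rep_matOf (okCode_of_checkGen ?_)
  rcases g with _ | _ | _ | _ | _ | _ | _ | _ | g
  · exact H62.Th.genOK0
  · exact H62.Th.genOK1
  · exact H62.Th.genOK2
  · exact H62.Th.genOK3
  · exact H62.Th.genOK4
  · exact H62.Th.genOK5
  · exact H62.Th.genOK6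
  · exact H62.Th.genOK7
  · omega

theorem code_a_ne : Nat.beq (H62.Th.code 0) H62.Th.oneC = false := by decide +kernel

variable (ρ : Spor.Th →* Matˣ)
  (hρ : ∀ g, ((ρ (PresentedGroup.of g) : Matˣ) : Mat) = matOf (H62.Th.code (idx g)))

include hρ

theorem rho_iota_injective : Function.Injective (ρ.comp H22Th.iota) := by
  refine injective_of_a _ fun h => ?_
  have h1 : matOf (H62.Th.code 0) = 1 := by
    have h' := congrArg (fun z : Matˣ => (z : Mat)) h
    simp only [MonoidHom.comp_apply, H22Th.iota_x, Units.val_one] at h'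
    exact (hρ .a).symm.trans h'
  have h2 : Rep (H62.Th.code 0) (1 : Mat) := h1 ▸ rep_code (by omega)
  have h3 := H62.Th.rep_code_unique h2 H62.Th.oneC_rep
  have h4 := code_a_ne
  rw [h3, Nat.beq_refl] at h4
  exact Bool.noConfusion h4

theorem iota_inj : Function.Injective H22Th.iota := fun p q h =>
  rho_iota_injective ρ hρ (by simp [h])

omit hρ in
/-- the matrix identity, for a monoid -/
theorem twist_units {R : Type*} [Monoid R] (m : ℕ → R) (φ : Spor.Th →* Rˣ)
    (hφ : ∀ g, ((φ (im (FreeGroup.of g)) : Rˣ) : R) = m (idx g))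
    (hs : (twLeft.map m).prod = (twRight.map m).prod) :
    φ (im Spor.Th.d * im Spor.Th.c * im Spor.Th.d) * φ (im Spor.Th.u) = φ (im Spor.Th.u) *
      φ (im Spor.Th.b * im Spor.Th.a * im Spor.Th.c * im Spor.Th.b * im Spor.Th.d * im Spor.Th.c *
      im Spor.Th.d * im Spor.Th.e * im Spor.Th.d * im Spor.Th.c * im Spor.Th.d * im Spor.Th.b *
      im Spor.Th.c * im Spor.Th.d * im Spor.Th.a * im Spor.Th.b * im Spor.Th.c * im Spor.Th.d) := by
  ext1
  simp only [twLeft, twRight, List.map_cons, List.map_nil, List.prod_cons, List.prod_nil,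
    mul_one] at hs
  simp only [map_mul, Units.val_mul, hφ, idx, mul_assoc]
  exact hs

theorem twist_dcd : (im Spor.Th.u)⁻¹ * (im Spor.Th.d * im Spor.Th.c * im Spor.Th.d) * im Spor.Th.u =
    im Spor.Th.b * im Spor.Th.a * im Spor.Th.c * im Spor.Th.b * im Spor.Th.d * im Spor.Th.c *
      im Spor.Th.d * im Spor.Th.e * im Spor.Th.d * im Spor.Th.c * im Spor.Th.d * im Spor.Th.b *
      im Spor.Th.c * im Spor.Th.d * im Spor.Th.a * im Spor.Th.b * im Spor.Th.c * im Spor.Th.d := by
  let h : H22Th.P := H22Th.x 3 * H22Th.x 2 * H22Th.x 3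
  let h' : H22Th.P := H22Th.x 1 * H22Th.x 0 * H22Th.x 2 * H22Th.x 1 * H22Th.x 3 * H22Th.x 2 *
    H22Th.x 3 * H22Th.x 4 * H22Th.x 3 * H22Th.x 2 * H22Th.x 3 * H22Th.x 1 * H22Th.x 2 *
    H22Th.x 3 * H22Th.x 0 * H22Th.x 1 * H22Th.x 2 * H22Th.x 3
  have e : H22Th.iota h = im Spor.Th.d * im Spor.Th.c * im Spor.Th.d := by
    simp [h, H22Th.iota_x, H22Th.thImg, H22Th.thX_eq]
  have e' : H22Th.iota h' =
      im Spor.Th.b * im Spor.Th.a * im Spor.Th.c * im Spor.Th.b * im Spor.Th.d * im Spor.Th.c *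
      im Spor.Th.d * im Spor.Th.e * im Spor.Th.d * im Spor.Th.c * im Spor.Th.d * im Spor.Th.b *
      im Spor.Th.c * im Spor.Th.d * im Spor.Th.a * im Spor.Th.b * im Spor.Th.c * im Spor.Th.d := by
    simp [h', H22Th.iota_x, H22Th.thImg, H22Th.thX_eq]
  have hmem : (im Spor.Th.u)⁻¹ * H22Th.iota h * im Spor.Th.u ∈ H22Th.iota.range := by
    rw [e]; exact H22Th.mem_dcd
  have hu : ∀ g, (ρ (im (FreeGroup.of g)) : Mat) = matOf (H62.Th.code (idx g)) := hρ
  have hval : ρ (H22Th.iota h) * ρ (im Spor.Th.u) = ρ (im Spor.Th.u) * ρ (H22Th.iota h') := by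
    rw [e, e']
    exact twist_units (fun g => matOf (H62.Th.code g)) ρ hu
      (sameC_spec dcd_check (fun g hg => rep_code (by simp [twLeft] at hg; omega))
        (fun g hg => rep_code (by simp [twRight] at hg; omega)))
  have := twist_of_mem H22Th.iota ρ (rho_iota_injective ρ hρ) hmem hval
  rw [← e, ← e', mul_assoc, this, inv_mul_cancel_left]

end Th
end H93
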