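import Mathlib
import Cfsg.Agent.H62.Th.GenOK
import Cfsg.Agent.H93.Th.Rho.C0
import Cfsg.Agent.H93.Th.Rho.C1
import Cfsg.Agent.H93.Th.Rho.C2
import Cfsg.Agent.H93.Th.Rho.C3

/-!
The representation of the presented Thompson group by 248 × 248 matrices over the integers modulo
three.
-/

set_option autoImplicit false
set_option maxRecDepth 100000

namespace H93
namespace Th

open Cfsg
open H62.Th (Mat matOf idx ordOf letWord relWord sameC sameC_spec checkGen fz_eq rep_matOf)

attribute [local irreducible] H62.Th.code H62.Th.matOf H62.Th.oneC H62.Th.okCode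

theorem genChk : ∀ g < 8, checkGen g = true := by
  intro g hg
  rcases g with _ | _ | _ | _ | _ | _ | _ | _ | g
  · exact H62.Th.genOK0
  · exact H62.Th.genOK1
  · exact H62.Th.genOK2
  · exact H62.Th.genOK3
  · exact H62.Th.genOK4
  · exact H62.Th.genOK5
  · exact H62.Th.genOK6
  · exact H62.Th.genOK7
  · omega

theorem gen_rep {g : ℕ} (hg : g < 8) : H62.Th.Rep (H62.Th.code g) (matOf (H62.Th.code g)) := by
  have h := genChk g hg
  simp only [checkGen, fz_eq, Bool.and_eq_true] at h
  exact rep_matOf h.1

theorem idx_lt (g : Spor.Th.Gen) : idx g < 8 := by cases g <;> decide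

theorem ordOf_pos (g : ℕ) : 0 < ordOf g := by unfold ordOf; split <;> norm_num

theorem gen_pow (g : Spor.Th.Gen) : matOf (H62.Th.code (idx g)) ^ ordOf (idx g) = 1 := by
  have h := genChk _ (idx_lt g)
  simp only [checkGen, fz_eq, Bool.and_eq_true] at h
  have h2 := sameC_spec (m := fun g => matOf (H62.Th.code g)) h.2
    (fun a ha => by rw [List.eq_of_mem_replicate ha]; exact gen_rep (idx_lt g))
    (fun a ha => absurd ha List.not_mem_nil)
  simpa using h2

/-- the matrix of a generator, as a unit -/
noncomputable def genUnit (g : Spor.Th.Gen) : Matˣ :=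
  Units.ofPowEqOne (matOf (H62.Th.code (idx g))) (ordOf (idx g)) (gen_pow g)
    (Nat.pos_iff_ne_zero.1 (ordOf_pos _))

theorem genUnit_val (g : Spor.Th.Gen) : (genUnit g : Mat) = matOf (H62.Th.code (idx g)) := rfl

theorem genUnit_pow (g : Spor.Th.Gen) : genUnit g ^ ordOf (idx g) = 1 :=
  Units.ext (by rw [Units.val_pow_eq_pow_val, genUnit_val, gen_pow, Units.val_one])

/-- positive words in any monoid -/
theorem units_word {R : Type*} [Monoid R] (m : ℕ → R) (f : Spor.Th.Gen → Rˣ)
    (hf : ∀ g, (f g : R) = m (idx g)) (hord : ∀ g, f g ^ ordOf (idx g) = 1) :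
    ∀ L : List (Spor.Th.Gen × Bool),
      ((FreeGroup.lift f (FreeGroup.mk L) : Rˣ) : R) = ((L.flatMap letWord).map m).prod
  | [] => by simp [← FreeGroup.one_eq_mk]
  | (g, b) :: L => by
    have e : FreeGroup.mk ((g, b) :: L) = FreeGroup.mk [(g, b)] * FreeGroup.mk L := by
      rw [FreeGroup.mul_mk]; rfl
    rw [e, map_mul, Units.val_mul, units_word m f hf hord L, List.flatMap_cons, List.map_append,
      List.prod_append]
    congr 1
    cases b with
    | true => simp [FreeGroup.lift_mk, letWord, hf]
    | false =>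
      have hinv : (f g)⁻¹ = f g ^ (ordOf (idx g) - 1) := by
        refine inv_eq_of_mul_eq_one_right ?_
        rw [← pow_succ', Nat.sub_add_cancel (ordOf_pos _), hord]
      simp [FreeGroup.lift_mk, letWord, hinv, hf, Units.val_pow_eq_pow_val]

theorem units_relator {R : Type*} [Monoid R] (m : ℕ → R) (f : Spor.Th.Gen → Rˣ)
    (hf : ∀ g, (f g : R) = m (idx g)) (hord : ∀ g, f g ^ ordOf (idx g) = 1)
    (r : FreeGroup Spor.Th.Gen)
    (h : ((7 :: relWord r).map m).prod = ([7].map m).prod) : FreeGroup.lift f r = 1 := by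
  have h1 : ((relWord r).map m).prod = ((FreeGroup.lift f r : Rˣ) : R) := by
    conv_rhs => rw [← FreeGroup.mk_toWord (x := r)]
    rw [units_word m f hf hord]
    rfl
  simp only [List.map_cons, List.map_nil, List.prod_cons, List.prod_nil, mul_one, h1] at h
  refine Units.ext ?_
  have h7 : m 7 = (f .u : R) := (hf .u).symm
  rw [h7] at h
  have h2 : f .u * FreeGroup.lift f r = f .u := Units.ext (by rw [Units.val_mul]; exact h)
  rw [mul_eq_left] at h2
  rw [h2]

theorem mem_range_chk {lo n i : ℕ} (h : rhoChk lo n = true) (h1 : lo ≤ i) (h2 : i < lo + n)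
    (hi : i < Spor.Th.extra.length) :
    sameC H62.Th.code (7 :: relWord Spor.Th.extra[i]) [7] = true := by
  simp only [rhoChk, List.all_eq_true] at h
  refine h _ (List.mem_iff_getElem.2 ⟨i - lo, ?_, ?_⟩)
  · simp only [List.length_take, List.length_drop]; omega
  · simp [List.getElem_take, List.getElem_drop, Nat.add_sub_cancel' h1]

theorem extra_length : Spor.Th.extra.length = 39 := rfl

theorem relWord_lt {r : FreeGroup Spor.Th.Gen} : ∀ a ∈ relWord r, a < 8 := by
  intro a ha
  simp only [relWord, List.mem_flatMap] at ha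
  obtain ⟨⟨g, b⟩, -, ha⟩ := ha
  cases b <;> simp [letWord] at ha <;> obtain ⟨-, rfl⟩ := ha <;> exact idx_lt g

theorem rels_hold : ∀ r ∈ Spor.Th.extra, FreeGroup.lift genUnit r = 1 := by
  intro r hr
  obtain ⟨i, hi, rfl⟩ := List.mem_iff_getElem.1 hr
  have hc : sameC H62.Th.code (7 :: relWord Spor.Th.extra[i]) [7] = true := by
    have hi' : i < 39 := extra_length ▸ hi
    by_cases a0 : i < 7; · exact mem_range_chk rhoOK0 (by omega) (by omega) hi
    by_cases a1 : i < 13; · exact mem_range_chk rhoOK7 (by omega) (by omega) hi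
    by_cases a2 : i < 14; · exact mem_range_chk rhoOK13 (by omega) (by omega) hi
    by_cases a3 : i < 19; · exact mem_range_chk rhoOK14 (by omega) (by omega) hi
    by_cases a4 : i < 20; · exact mem_range_chk rhoOK19 (by omega) (by omega) hi
    by_cases a5 : i < 27; · exact mem_range_chk rhoOK20 (by omega) (by omega) hi
    by_cases a6 : i < 33; · exact mem_range_chk rhoOK27 (by omega) (by omega) hi
    by_cases a7 : i < 35; · exact mem_range_chk rhoOK33 (by omega) (by omega) hi
    by_cases a8 : i < 37; · exact mem_range_chk rhoOK35 (by omega) (by omega) hi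
    by_cases a9 : i < 38; · exact mem_range_chk rhoOK37 (by omega) (by omega) hi
    exact mem_range_chk rhoOK38 (by omega) (by omega) hi
  refine units_relator (fun g => matOf (H62.Th.code g)) genUnit genUnit_val genUnit_pow _ ?_
  exact sameC_spec hc
    (fun a ha => gen_rep (by
      rcases List.mem_cons.1 ha with rfl | ha
      · norm_num
      · exact relWord_lt a ha))
    (fun a ha => gen_rep (by
      rw [List.mem_singleton] at ha
      omega))

/-- the representation -/
noncomputable def rho : Spor.Th →* Matˣ :=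
  PresentedGroup.toGroup (f := genUnit) (by
    intro r hr
    rcases hr with hr | hr
    · obtain ⟨x, hx, -⟩ := hr
      simp [Spor.coxNodes, Spor.Th.edges] at hx
    · exact rels_hold r hr)

theorem rho_of (g : Spor.Th.Gen) :
    ((rho (PresentedGroup.of g) : Matˣ) : Mat) = matOf (H62.Th.code (idx g)) := by
  rw [rho, PresentedGroup.toGroup.of]
  exact genUnit_val g

end Th
end H93
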