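import Mathlib
import Cfsg.Agent.H77.HN.Words
import Cfsg.Agent.H93.CI.Table

/-!
A lower bound for the order of a subgroup from words with distinct images of points, level by level.
-/

set_option autoImplicit false

namespace H93
namespace Th

open H77.HN (evw run runK runK_eq Rep)
open CosetI (force force_eq)

variable {P : Type*} [Group P] {gen : ℕ → P} {n : ℕ} {T : ℕ → ℕ → ℕ}

/-- the listed numbers are distinct and absent from the mask -/
noncomputable def fresh (xs : List ℕ) : ℕ → Bool :=
  List.rec (motive := fun _ => ℕ → Bool) (fun _ => true)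
    (fun x _ ih m => force x fun x =>
      !Nat.testBit m x && force (Nat.lor m (2 ^ x)) ih) xs

theorem fresh_spec : ∀ (xs : List ℕ) (m : ℕ), fresh xs m = true →
    xs.Nodup ∧ ∀ x ∈ xs, Nat.testBit m x = false
  | [], _, _ => ⟨List.nodup_nil, by simp⟩
  | x :: xs, m, h => by
    have h' : (!Nat.testBit m x && fresh xs (m ||| 2 ^ x)) = true := by
      simpa [fresh, force_eq] using h
    rw [Bool.and_eq_true, Bool.not_eq_true'] at h'
    obtain ⟨h1, h2⟩ := fresh_spec xs _ h'.2
    refine ⟨List.nodup_cons.2 ⟨fun hx => ?_, h1⟩, ?_⟩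
    · have := h2 x hx
      simp [Nat.testBit_or] at this
    · intro y hy
      rcases List.mem_cons.1 hy with rfl | hy
      · exact h'.1
      · have := h2 y hy
        simp only [Nat.testBit_or, Bool.or_eq_false_iff] at this
        exact this.1

/-- a chain of levels: a point with words moving it to distinct places, fixed by all later words -/
noncomputable def chainOK (T : ℕ → ℕ → ℕ) (n : ℕ) : List (ℕ × List (List ℕ)) → Bool
  | [] => true
  | (b, ws) :: rest =>
    Nat.blt b n && fresh (ws.map fun w => runK T w b) 0 &&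
      rest.all (fun L => L.2.all fun w => Nat.beq (runK T w b) b) && chainOK T n rest

/-- the product of the lengths -/
def chainSize : List (ℕ × List (List ℕ)) → ℕ
  | [] => 1
  | (_, ws) :: rest => ws.length * chainSize rest

theorem chain_le [Finite P] (R : Rep gen n T) : ∀ (ls : List (ℕ × List (List ℕ))) (H : Subgroup P),
    chainOK T n ls = true → (∀ L ∈ ls, ∀ w ∈ L.2, evw gen w ∈ H) → chainSize ls ≤ Nat.card H
  | [], H, _, _ => Nat.card_pos
  | (b, ws) :: rest, H, h, hmem => by
    simp only [chainOK, Bool.and_eq_true, List.all_eq_true, Nat.beq_eq, runK_eq] at h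
    obtain ⟨⟨⟨hb, hf⟩, hfix⟩, hrest⟩ := h
    have hb' : b < n := by simpa [Nat.blt_eq] using hb
    let H' : Subgroup P := H ⊓ R.fixPt ⟨b, hb'⟩
    have ih : chainSize rest ≤ Nat.card H' := chain_le R rest H' hrest fun L hL w hw =>
      Subgroup.mem_inf.2 ⟨hmem L (List.mem_cons_of_mem _ hL) w hw,
        R.mem_fixPt.2 (Fin.ext (by rw [R.evw_apply]; exact hfix L hL w hw))⟩
    let f : Fin ws.length × H' → H := fun x =>
      ⟨evw gen ws[x.1] * (x.2 : P), mul_mem
        (hmem (b, ws) List.mem_cons_self _ (List.getElem_mem _)) (Subgroup.mem_inf.1 x.2.2).1⟩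
    have hf' : Function.Injective f := by
      rintro ⟨i, x⟩ ⟨j, y⟩ hxy
      have he : evw gen ws[i] * (x : P) = evw gen ws[j] * (y : P) := congrArg Subtype.val hxy
      have hi : i = j := by
        have h1 := congrArg (fun g => R.φ g ⟨b, hb'⟩) he
        simp only [map_mul, Equiv.Perm.mul_apply, R.mem_fixPt.1 (Subgroup.mem_inf.1 x.2).2,
          R.mem_fixPt.1 (Subgroup.mem_inf.1 y.2).2] at h1
        have h2 := congrArg Fin.val h1
        rw [R.evw_apply, R.evw_apply] at h2
        have h3 := (fresh_spec _ _ hf).1
        refine Fin.ext ((List.Nodup.getElem_inj_iff h3 (hi := by simp) (hj := by simp)).1 ?_)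
        simpa [runK_eq] using h2
      subst hi
      exact Prod.ext rfl (Subtype.ext (mul_left_cancel he))
    have := Nat.card_le_card_of_injective f hf'
    rw [Nat.card_prod, Nat.card_fin] at this
    exact le_trans (Nat.mul_le_mul le_rfl ih) this

end Th
end H93
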