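import Mathlib
import Cfsg.Agent.H62.Th.Code

/-!
A packed row vector times a matrix given by its packed rows, modulo three.
-/

set_option autoImplicit false

namespace H93
namespace Th

open H62.Th (pk pk_congr pk_and pk_shift_and pk_add pk_mul pk_zero fz fz_eq fold last fd rep rep_eq
  fd_mod fd_bound rowMask row_eq pk_shift_digits pk_inj pk_append pk_lt Mat)

attribute [local irreducible] pk rep

/-- six folds and the last step -/
noncomputable def red248 (x : ℕ) : ℕ :=
  fz (rep 248 3) fun m3 => fz (rep 248 255) fun hi => fz (rep 248 1) fun one =>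
    fz (fold m3 hi x) fun x => fz (fold m3 hi x) fun x => fz (fold m3 hi x) fun x =>
    fz (fold m3 hi x) fun x => fz (fold m3 hi x) fun x => fz (fold m3 hi x) fun x => last one x

theorem fold248 {F : ℕ → ℕ} (hF : ∀ l, F l < 1024) :
    fold (rep 248 3) (rep 248 255) (pk 248 F) = pk 248 fun l => fd (F l) := by
  show (pk 248 F &&& rep 248 3) + ((pk 248 F >>> 2) &&& rep 248 255) = _
  rw [rep_eq, rep_eq, pk_and 248 (fun l _ => hF l) (fun _ _ => by norm_num),
    pk_shift_and (by norm_num) (by norm_num) _ (fun l _ => hF l), ← pk_add]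
  refine pk_congr _ fun l _ => ?_
  rw [fd, show (3 : ℕ) = 2 ^ 2 - 1 from rfl, Nat.and_two_pow_sub_one_eq_mod,
    show (255 : ℕ) = 2 ^ 8 - 1 from rfl, Nat.and_two_pow_sub_one_eq_mod]
  have := hF l
  omega

theorem last248 {F : ℕ → ℕ} (hF : ∀ l, F l ≤ 3) :
    last (rep 248 1) (pk 248 F) = pk 248 fun l => F l % 3 := by
  have hlt : ∀ l, F l < 2 ^ 10 := fun l => lt_of_le_of_lt (hF l) (by norm_num)
  show pk 248 F - 3 * (pk 248 F &&& ((pk 248 F >>> 1) &&& rep 248 1)) = _
  rw [rep_eq, pk_shift_and (by norm_num) (by norm_num) _ (fun l _ => hlt l),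
    pk_and 248 (fun l _ => hlt l) (fun l _ => lt_of_le_of_lt Nat.and_le_right (by norm_num)),
    ← pk_mul, H62.Th.pk_sub]
  · refine pk_congr _ fun l _ => ?_
    have h4 : ∀ d ≤ 3, d - 3 * (d &&& (d / 2 ^ 1 &&& 1)) = d % 3 := by decide
    exact h4 _ (hF l)
  · intro l _
    have h4 : ∀ d ≤ 3, 3 * (d &&& (d / 2 ^ 1 &&& 1)) ≤ d := by decide
    exact h4 _ (hF l)

theorem red248_eq {F : ℕ → ℕ} (hF : ∀ l, F l ≤ 992) :
    red248 (pk 248 F) = pk 248 fun l => F l % 3 := by
  have le : ∀ d, d < 1024 → fd d < 1024 := fun d h => by unfold fd; omega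
  have b0 : ∀ l, F l < 1024 := fun l => lt_of_le_of_lt (hF l) (by norm_num)
  have b1 := fun l => le _ (b0 l)
  have b2 := fun l => le _ (b1 l)
  have b3 := fun l => le _ (b2 l)
  have b4 := fun l => le _ (b3 l)
  have b5 := fun l => le _ (b4 l)
  simp only [red248, fz_eq]
  rw [fold248 b0, fold248 b1, fold248 b2, fold248 b3, fold248 b4, fold248 b5,
    last248 fun l => fd_bound _ (hF l)]
  exact pk_congr _ fun l _ => by simp only [fd_mod]

/-- the combination of the rows with the fields of the vector as coefficients -/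
noncomputable def accV (rows : List ℕ) : ℕ → ℕ → ℕ :=
  List.rec (motive := fun _ => ℕ → ℕ → ℕ) (fun _ s => s)
    (fun r _ ih v s => fz (Nat.add s (Nat.mul (Nat.land v 1023) r)) fun s' =>
      fz (Nat.shiftRight v 10) fun v' => ih v' s') rows

/-- vector times matrix -/
noncomputable def vmC (rows : List ℕ) (v : ℕ) : ℕ := fz (accV rows v 0) red248

/-- the rows of a packed matrix -/
noncomputable def rowsOK (Y : ℕ) (rows : List ℕ) : Bool :=
  Nat.beq rows.length 248 &&
    (List.range 248).all fun k => Nat.beq (Nat.land (Nat.shiftRight Y (2480 * k)) rowMask) (rows.getD k 0)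

/-- the packed number stands for the vector -/
def VRep (v : ℕ) (V : Fin 248 → ZMod 3) : Prop :=
  ∃ f : ℕ → ℕ, (∀ k, f k < 3) ∧ v = pk 248 f ∧ ∀ j : Fin 248, (f j.val : ZMod 3) = V j

theorem vrep_unique {v w : ℕ} {V : Fin 248 → ZMod 3} (h : VRep v V) (h' : VRep w V) : v = w := by
  obtain ⟨f, hf, rfl, hV⟩ := h
  obtain ⟨g, hg, rfl, hW⟩ := h'
  refine pk_congr _ fun k hk => ?_
  have h1 := (hV ⟨k, hk⟩).trans (hW ⟨k, hk⟩).symm
  have := congrArg ZMod.val h1
  rwa [ZMod.val_natCast_of_lt (hf k), ZMod.val_natCast_of_lt (hg k)] at this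

theorem vrep_eq {v : ℕ} {V W : Fin 248 → ZMod 3} (h : VRep v V) (h' : VRep v W) : V = W := by
  obtain ⟨f, hf, rfl, hV⟩ := h
  obtain ⟨g, hg, e, hW⟩ := h'
  have h2 := pk_inj 248 (fun k _ => lt_trans (hf k) (by norm_num))
    (fun k _ => lt_trans (hg k) (by norm_num)) e
  funext j
  rw [← hV, ← hW, h2 _ j.isLt]

theorem accV_eq {f : ℕ → ℕ} (hf : ∀ k, f k < 1024) (R : ℕ → ℕ → ℕ) : ∀ (n j : ℕ) (u : ℕ → ℕ),
    j + n = 248 → accV ((List.range n).map fun i => pk 248 (R (j + i))) (pk 248 f >>> (10 * j))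
        (pk 248 u) = pk 248 fun l => u l + ∑ k ∈ Finset.Ico j 248, f k * R k l := by
  intro n
  induction n with
  | zero =>
    intro j u hj
    obtain rfl : j = 248 := by omega
    show pk 248 u = _
    exact pk_congr _ fun l _ => by rw [Finset.Ico_self, Finset.sum_empty, add_zero]
  | succ n ih =>
    intro j u hj
    rw [List.range_succ_eq_map, List.map_cons, List.map_map]
    show fz (Nat.add (pk 248 u) (Nat.mul (Nat.land (pk 248 f >>> (10 * j)) 1023) (pk 248 (R (j + 0)))))
      (fun s' => fz (Nat.shiftRight (pk 248 f >>> (10 * j)) 10) fun v' => accV _ v' s') = _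
    simp only [fz_eq]
    have hd : Nat.land (pk 248 f >>> (10 * j)) 1023 = f j := by
      show (pk 248 f >>> (10 * j)) &&& (2 ^ 10 - 1) = _
      rw [pk_shift_digits (by omega) fun l _ => hf l, Nat.and_two_pow_sub_one_eq_mod,
        show 248 - j = 1 + (248 - j - 1) by omega, pk_append, Nat.add_mul_mod_self_left]
      conv_lhs => unfold pk
      simp only [Nat.add_zero]
      conv_lhs => unfold pk
      rw [Nat.mul_zero, Nat.add_zero]
      exact Nat.mod_eq_of_lt (hf j)
    rw [hd, Nat.add_zero]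
    show accV _ ((pk 248 f >>> (10 * j)) >>> 10) (pk 248 u + f j * pk 248 (R j)) = _
    rw [← pk_mul, ← pk_add, ← Nat.shiftRight_add, show 10 * j + 10 = 10 * (j + 1) by ring,
      show ((fun i => pk 248 (R (j + i))) ∘ Nat.succ) = fun i => pk 248 (R (j + 1 + i)) from
        funext fun i => by simp only [Function.comp, Nat.succ_eq_add_one, Nat.add_assoc, Nat.add_comm 1],
      ih (j + 1) _ (by omega)]
    refine pk_congr _ fun l _ => ?_
    rw [Finset.sum_eq_sum_Ico_succ_bot (show j < 248 by omega)]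
    ring

theorem vmC_rep {Y v : ℕ} {M : Mat} {V : Fin 248 → ZMod 3} {rows : List ℕ} (hv : VRep v V)
    (hY : H62.Th.Rep Y M) (hr : rowsOK Y rows = true) :
    VRep (vmC rows v) (Matrix.vecMul V M) := by
  obtain ⟨f, hf, rfl, hV⟩ := hv
  obtain ⟨g, hg, rfl, hM⟩ := hY
  simp only [rowsOK, Bool.and_eq_true, List.all_eq_true, List.mem_range, Nat.beq_eq] at hr
  obtain ⟨hlen, hrow⟩ := hr
  have hrows : rows = (List.range 248).map fun i => pk 248 fun j => g (248 * i + j) := by
    refine List.ext_getElem (by simp [hlen]) fun i h1 h2 => ?_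
    have hi : i < 248 := hlen ▸ h1
    rw [List.getElem_map, List.getElem_range, ← row_eq hg hi, ← List.getD_eq_getElem _ 0 h1,
      ← hrow i hi]
    rfl
  let F : ℕ → ℕ := fun l => ∑ k ∈ Finset.Ico 0 248, f k * g (248 * k + l)
  have hF : ∀ l, F l ≤ 992 := by
    intro l
    refine le_trans (Finset.sum_le_card_nsmul _ _ 4 fun k _ => ?_) (by simp)
    calc f _ * g _ ≤ 2 * 2 := Nat.mul_le_mul (Nat.lt_succ_iff.mp (hf _)) (Nat.lt_succ_iff.mp (hg _))
      _ = 4 := rfl
  refine ⟨fun l => F l % 3, fun l => Nat.mod_lt _ (by norm_num), ?_, fun j => ?_⟩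
  · have h := accV_eq (fun k => lt_trans (hf k) (by norm_num)) (fun i j => g (248 * i + j)) 248 0
      (fun _ => 0) rfl
    simp only [Nat.mul_zero, Nat.shiftRight_zero, pk_zero, Nat.zero_add] at h
    simp only [vmC, fz_eq, hrows, h]
    exact red248_eq hF
  · rw [ZMod.natCast_mod]
    show ((∑ k ∈ Finset.Ico 0 248, _ : ℕ) : ZMod 3) = _
    rw [← Finset.range_eq_Ico, ← Fin.sum_univ_eq_sum_range (fun k => f k * g (248 * k + j.val)) 248]
    rw [Nat.cast_sum]
    simp only [Matrix.vecMul, dotProduct]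
    refine Finset.sum_congr rfl fun k _ => ?_
    rw [Nat.cast_mul, hV k, hM k j]

end Th
end H93
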