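import Mathlib
import Cfsg.Agent.H93.Th.Rho
import Cfsg.Agent.H93.Th.Low3.Check

/-!
The 3-part: three words generate a 3-group of order at least 3^10 in the group of matrices.
-/

set_option autoImplicit false
set_option maxRecDepth 100000

namespace H93
namespace Th

open Cfsg
open H62.Th (Mat pk pk_inj pk_and pk_shift_and rep_eq pk_dig pk_zero pk_congr dig dig_lt asm asm_eq matOf mulC
  mul_rep rep_unique rep_matOf runC runC_rep fz_eq oneC_rep idx)

attribute [local irreducible] H62.Th.code H62.Th.matOf H62.Th.oneC H62.Th.okCode H62.Th.asm H62.Th.pk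
  H62.Th.rep

/-- the vector of a code -/
def vecOf (v : ℕ) : Fin 248 → ZMod 3 := fun j => (dig v j.val : ZMod 3)

theorem vrep_vecOf {v : ℕ} (h : okVec v = true) : VRep v (vecOf v) := by
  simp only [okVec, Bool.and_eq_true, Nat.beq_eq] at h
  obtain ⟨h0, h1, h2⟩ := h
  have hlt : v < 2 ^ (10 * 248) := Nat.le_of_ble_eq_true h0
  have e1 : pk 248 (fun l => dig v l &&& 3) = pk 248 (dig v) := by
    rw [← pk_and 248 (fun l _ => dig_lt v l) (fun _ _ => by norm_num), ← rep_eq, pk_dig _ hlt]
    exact h1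
  have e2 : pk 248 (fun l => dig v l &&& (dig v l / 2 ^ 1 &&& 1)) = pk 248 fun _ => 0 := by
    rw [← pk_and 248 (fun l _ => dig_lt v l) (fun l _ => lt_of_le_of_lt Nat.and_le_right (by norm_num)),
      ← pk_shift_and (by norm_num) (by norm_num) _ (fun l _ => dig_lt v l), ← rep_eq, pk_dig _ hlt,
      pk_zero]
    exact h2
  refine ⟨fun l => if l < 248 then dig v l else 0, fun l => ?_, ?_, fun j => ?_⟩
  · dsimp only
    split
    · rename_i hl
      have a1 := pk_inj 248 (fun k _ => lt_of_le_of_lt Nat.and_le_right (by norm_num))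
        (fun k _ => dig_lt v k) e1 l hl
      have a2 := pk_inj 248 (fun k _ => lt_of_le_of_lt Nat.and_le_left (dig_lt v k))
        (fun _ _ => by norm_num) e2 l hl
      have h4 : dig v l ≤ 3 := by rw [← a1]; exact Nat.and_le_right
      generalize dig v l = d at a2 h4 ⊢
      have : ∀ d ≤ 3, d &&& (d / 2 ^ 1 &&& 1) = 0 → d < 3 := by decide
      exact this d h4 a2
    · norm_num
  · conv_lhs => rw [← pk_dig _ hlt]
    exact pk_congr _ fun l hl => (if_pos hl).symm
  · dsimp only
    rw [if_pos j.isLt]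
    rfl

/-- lower triangular with ones on the diagonal -/
def LowUni (M : Mat) : Prop := ∀ i j : Fin 248, i ≤ j → M i j = if i = j then 1 else 0

theorem lowUni_one : LowUni 1 := fun i j _ => Matrix.one_apply

theorem lowUni_mul {M N : Mat} (hM : LowUni M) (hN : LowUni N) : LowUni (M * N) := by
  intro i j hij
  rw [Matrix.mul_apply, Finset.sum_eq_single i]
  · rw [hM i i le_rfl, if_pos rfl, one_mul, hN i j hij]
  · intro k _ hk
    rcases le_total i k with h | h
    · rw [hM i k h, if_neg (Ne.symm hk), zero_mul]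
    · rw [hN k j (h.trans hij), if_neg (fun (e : k = j) => hk (le_antisymm h (hij.trans e.ge))), mul_zero]
  · intro h; exact absurd (Finset.mem_univ i) h

theorem lowUni_pow_eq_one {M : Mat} (hM : LowUni M) : M ^ 729 = 1 := by
  have hN : ∀ (k : ℕ) (i j : Fin 248), i.val < j.val + k → ((M - 1) ^ k) i j = 0 := by
    intro k
    induction k with
    | zero =>
      intro i j h
      rw [pow_zero, Matrix.one_apply, if_neg]
      intro e; rw [e] at h; omega
    | succ k ih =>
      intro i j h
      rw [pow_succ, Matrix.mul_apply]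
      refine Finset.sum_eq_zero fun l _ => ?_
      by_cases hl : i.val < l.val + k
      · rw [ih i l hl, zero_mul]
      · rw [Matrix.sub_apply, hM l j (by omega), Matrix.one_apply, sub_self, mul_zero]
  have h729 : (M - 1) ^ 729 = 0 := by
    ext i j
    exact hN 729 i j (by omega)
  have : Fact (Nat.Prime 3) := ⟨Nat.prime_three⟩
  have h : ((M - 1) + 1) ^ 729 = (M - 1) ^ 729 + 1 ^ 729 :=
    add_pow_char_pow_of_commute 3 6 (Commute.one_right (M - 1))
  rwa [sub_add_cancel, h729, zero_add, one_pow] at h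

theorem asm_mask : maskU = pk 61504 fun k => if k / 248 ≤ k % 248 then 1023 else 0 := by
  rw [maskU, asm_eq 248 fun i k => bif Nat.ble i k then 1023 else 0]
  refine pk_congr _ fun k _ => ?_
  by_cases h : k / 248 ≤ k % 248
  · rw [if_pos h, Nat.ble_eq_true_of_le h]; rfl
  · rw [if_neg h, show Nat.ble (k / 248) (k % 248) = false by
      rw [← Bool.not_eq_true, Nat.ble_eq]; exact h]
    rfl

attribute [local irreducible] maskU

theorem lowUni_of_mask {T : ℕ} {M : Mat} (hT : H62.Th.Rep T M)
    (h : Nat.land T maskU = H62.Th.oneC) : LowUni M := by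
  intro i j hij
  obtain ⟨f, hf, rfl, hM⟩ := hT
  obtain ⟨g, hg, hg1, hone⟩ := oneC_rep
  have hf' : ∀ l, l < 61504 → f l < 2 ^ 10 := fun l _ => lt_trans (hf l) (by norm_num)
  have e : pk 61504 f &&& maskU = pk 61504 g := h.trans hg1
  rw [asm_mask, pk_and _ hf' (fun l _ => by split <;> norm_num)] at e
  have hk : 248 * i.val + j.val < 61504 := by omega
  have h1 := pk_inj 61504 (fun l hl => lt_of_le_of_lt Nat.and_le_left (hf' l hl))
    (fun l _ => lt_trans (hg l) (by norm_num)) e _ hk
  have hij' : i.val ≤ j.val := hij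
  rw [if_pos (by omega), show (1023 : ℕ) = 2 ^ 10 - 1 from rfl, Nat.and_two_pow_sub_one_eq_mod,
    Nat.mod_eq_of_lt (hf' _ hk)] at h1
  rw [← hM i j, h1, hone i j, Matrix.one_apply]

/-- the letters as matrices -/
noncomputable def gmat (l : ℕ) : Mat := matOf (H62.Th.code l)

/-- a generator of the presented group by number -/
def thGen : ℕ → Spor.Th.Gen
  | 0 => .a
  | 1 => .b
  | 2 => .c
  | 3 => .d
  | 4 => .e
  | 5 => .s
  | 6 => .t
  | _ => .u

theorem idx_thGen : ∀ {l : ℕ}, l < 8 → idx (thGen l) = l := by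
  intro l hl
  rcases l with _ | _ | _ | _ | _ | _ | _ | _ | l <;> first | rfl | omega

/-- the three elements -/
noncomputable def low3El (i : ℕ) : Matˣ :=
  rho ((low3W i).map fun l => PresentedGroup.of (thGen l)).prod

theorem units_map_prod {R : Type*} [Monoid R] {G : Type*} [Monoid G] (φ : G →* Rˣ) (x : ℕ → G)
    (m : ℕ → R) : ∀ w : List ℕ, (∀ l ∈ w, (φ (x l) : R) = m l) →
      ((φ (w.map x).prod : Rˣ) : R) = (w.map m).prod
  | [], _ => by simp
  | l :: w, h => by
    simp only [List.map_cons, List.prod_cons, map_mul, Units.val_mul]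
    rw [h l List.mem_cons_self, units_map_prod φ x m w fun a ha => h a (List.mem_cons_of_mem _ ha)]

theorem low3W_lt : ∀ i < 3, ∀ l ∈ low3W i, l < 8 := by decide

theorem low3El_val {i : ℕ} (hi : i < 3) : (low3El i : Mat) = ((low3W i).map gmat).prod := by
  refine units_map_prod rho _ gmat _ fun l hl => ?_
  rw [rho_of, idx_thGen (low3W_lt i hi l hl)]
  rfl

theorem low3_rep {i : ℕ} (hi : i < 3) (h : low3Lit i = true) :
    H62.Th.Rep (asm (low3X i)) (low3El i : Mat) ∧ rowsOK (asm (low3X i)) (low3X i) = true := by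
  simp only [low3Lit, fz_eq, Bool.and_eq_true, Nat.beq_eq] at h
  obtain ⟨⟨hok, hrows⟩, hp⟩ := h
  have hy := rep_matOf hok
  have hu := gen_rep (g := 7) (by norm_num)
  have h1 := runC_rep (m := gmat) (low3W i) (fun g hg => gen_rep (low3W_lt i hi g hg)) hu
  rw [hp] at h1
  have h2 := rep_unique h1 (mul_rep hu hy)
  have h3 : (rho (PresentedGroup.of .u) : Mat) = matOf (H62.Th.code 7) := rho_of .u
  rw [← h3, ← low3El_val hi] at h2
  exact ⟨(Units.mul_right_inj _).1 h2 ▸ hy, hrows⟩

/-- the change of basis -/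
noncomputable def bas : Mat := matOf (asm low3B)
/-- its inverse -/
noncomputable def basInv : Mat := matOf (asm low3Bi)

/-- the subgroup -/
noncomputable def low3H : Subgroup Matˣ := Subgroup.closure (low3El '' {i | i < 3})

theorem low3H_le : low3H ≤ rho.range := by
  rw [low3H, Subgroup.closure_le]
  rintro _ ⟨i, -, rfl⟩
  exact ⟨_, rfl⟩

/-- the stabiliser of a vector -/
def vfix (V : Fin 248 → ZMod 3) : Subgroup Matˣ where
  carrier := {g | Matrix.vecMul V (g : Mat) = V}
  one_mem' := by simp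
  mul_mem' := fun {g h} hg hh => by
    show Matrix.vecMul V ((g * h : Matˣ) : Mat) = V
    rw [Units.val_mul, ← Matrix.vecMul_vecMul, show Matrix.vecMul V (g : Mat) = V from hg]
    exact hh
  inv_mem' := fun {g} hg => by
    show Matrix.vecMul V ((g⁻¹ : Matˣ) : Mat) = V
    conv_lhs => rw [← show Matrix.vecMul V (g : Mat) = V from hg]
    rw [Matrix.vecMul_vecMul, Units.mul_inv, Matrix.vecMul_one]

theorem walk3_rep (hlit : ∀ i < 3, low3Lit i = true) :
    ∀ (w : List ℕ) {v : ℕ} {V : Fin 248 → ZMod 3}, (∀ l ∈ w, l < 3) → VRep v V →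
      VRep (walk3 w v) (Matrix.vecMul V ((w.map low3El).prod : Matˣ))
  | [], v, V, _, hv => by simpa [walk3] using hv
  | l :: w, v, V, hw, hv => by
    have hl := hw l List.mem_cons_self
    obtain ⟨h1, h2⟩ := low3_rep hl (hlit l hl)
    have ih := walk3_rep hlit w (fun a ha => hw a (List.mem_cons_of_mem _ ha)) (vmC_rep hv h1 h2)
    rw [List.map_cons, List.prod_cons, Units.val_mul, ← Matrix.vecMul_vecMul]
    show VRep (H62.Th.fz (vmC (low3X l) v) (walk3 w)) _
    rw [fz_eq]
    exact ih

theorem low3Chain_words : ∀ st, low3Chain st = true → ∀ s ∈ st, ∀ l ∈ s.2, l < 3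
  | [], _, s, hs => absurd hs List.not_mem_nil
  | (v, w) :: rest, h, s, hs => by
    simp only [low3Chain, Bool.and_eq_true, List.all_eq_true] at h
    rcases List.mem_cons.1 hs with rfl | hs
    · intro l hl; simpa [Nat.blt_eq] using h.1.1.1.2 l hl
    · exact low3Chain_words rest h.2 s hs

theorem chain3_le (hlit : ∀ i < 3, low3Lit i = true) :
    ∀ (st : List (ℕ × List ℕ)) (H : Subgroup Matˣ),
      low3Chain st = true → (∀ s ∈ st, (s.2.map low3El).prod ∈ H) → IsPGroup 3 H →
      3 ^ st.length ≤ Nat.card H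
  | [], H, _, _, _ => Nat.card_pos
  | (v, w) :: rest, H, h, hmem, hp => by
    have hwords := low3Chain_words _ h
    simp only [low3Chain, Bool.and_eq_true, List.all_eq_true, Nat.beq_eq, Bool.not_eq_true'] at h
    obtain ⟨⟨⟨⟨hv, -⟩, hmove⟩, hfix⟩, hrest⟩ := h
    have hV := vrep_vecOf hv
    have hwl : ∀ l ∈ w, l < 3 := hwords (v, w) List.mem_cons_self
    let H' : Subgroup Matˣ := H ⊓ vfix (vecOf v)
    have hp' : IsPGroup 3 H' := hp.to_le inf_le_left
    have hmem' : ∀ s ∈ rest, (s.2.map low3El).prod ∈ H' := fun s hs => by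
      refine Subgroup.mem_inf.2 ⟨hmem s (List.mem_cons_of_mem _ hs), ?_⟩
      have hr := walk3_rep hlit s.2 (hwords s (List.mem_cons_of_mem _ hs)) hV
      rw [hfix s hs] at hr
      exact vrep_eq hr hV
    have ih := chain3_le hlit rest H' hrest hmem' hp'
    have : Fact (Nat.Prime 3) := ⟨Nat.prime_three⟩
    have hlt : H' < H := by
      refine lt_of_le_of_ne inf_le_left fun e => ?_
      have hw' : (w.map low3El).prod ∈ H' := e.symm ▸ hmem (v, w) List.mem_cons_self
      have hr := walk3_rep hlit w hwl hV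
      rw [show Matrix.vecMul (vecOf v) ((w.map low3El).prod : Matˣ) = vecOf v from
        (Subgroup.mem_inf.1 hw').2] at hr
      have := vrep_unique hr hV
      rw [this, Nat.beq_refl] at hmove
      exact Bool.noConfusion hmove
    obtain ⟨a, ha⟩ := (IsPGroup.iff_card.1 hp)
    obtain ⟨b, hb⟩ := (IsPGroup.iff_card.1 hp')
    have hcard : Nat.card H' < Nat.card H := by
      refine lt_of_le_of_ne (Subgroup.card_le_of_le hlt.le) fun e => hlt.ne ?_
      exact Subgroup.eq_of_le_of_card_ge hlt.le e.ge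
    rw [ha, hb] at hcard
    rw [hb] at ih
    rw [ha, List.length_cons, pow_succ]
    have hba : b < a := (Nat.pow_lt_pow_iff_right (by norm_num)).1 hcard
    calc 3 ^ rest.length * 3 ≤ 3 ^ b * 3 := Nat.mul_le_mul_right _ ih
      _ = 3 ^ (b + 1) := (pow_succ _ _).symm
      _ ≤ 3 ^ a := Nat.pow_le_pow_right (by norm_num) hba

theorem basis_spec (h : low3Basis = true) :
    H62.Th.Rep (asm low3B) bas ∧ H62.Th.Rep (asm low3Bi) basInv ∧ bas * basInv = 1 := by
  simp only [low3Basis, fz_eq, Bool.and_eq_true, Nat.beq_eq] at h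
  obtain ⟨⟨h1, h2⟩, h3⟩ := h
  have r1 : H62.Th.Rep (asm low3B) bas := rep_matOf h1
  have r2 : H62.Th.Rep (asm low3Bi) basInv := rep_matOf h2
  have r3 := mul_rep r1 r2
  rw [h3] at r3
  exact ⟨r1, r2, rep_unique r3 oneC_rep⟩

theorem mat_inv_comm {n R : Type} [Fintype n] [DecidableEq n] [CommRing R] {M N : Matrix n n R}
    (h : M * N = 1) : N * M = 1 := mul_eq_one_comm.1 h

theorem mul_pow_728 {R : Type} [Monoid R] {x : R} (h : x ^ 729 = 1) : x * x ^ 728 = 1 := by
  rw [← pow_succ']; exact h

theorem inv_conj_eq {R : Type} [Monoid R] {b bi : R} (x : Rˣ) (hb : b * bi = 1) (hb' : bi * b = 1)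
    (h : (b * x * bi) ^ 729 = 1) : b * (x⁻¹ : Rˣ) * bi = (b * x * bi) ^ 728 := by
  refine left_inv_eq_right_inv (a := b * x * bi) ?_ (mul_pow_728 h)
  rw [show b * (x⁻¹ : Rˣ) * bi * (b * x * bi) = b * (((x⁻¹ : Rˣ) : R) * (bi * b) * x) * bi by
    simp only [mul_assoc], hb', mul_one, Units.inv_mul, mul_one, hb]

theorem units_pow_6 {R : Type} [Monoid R] {g : Rˣ} (h : (g : R) ^ 729 = 1) : g ^ 3 ^ 6 = 1 :=
  Units.ext (by rw [Units.val_pow_eq_pow_val, Units.val_one, show (3 : ℕ) ^ 6 = 729 from rfl, h])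

theorem isPGroup_low3H (hlit : ∀ i < 3, low3Lit i = true) (htri : ∀ i < 3, low3Tri i = true)
    (hbas : low3Basis = true) : IsPGroup 3 low3H := by
  obtain ⟨rb, rbi, hb⟩ := basis_spec hbas
  have hb' : basInv * bas = 1 := mat_inv_comm hb
  have key : ∀ g ∈ low3H, LowUni (bas * (g : Mat) * basInv) := by
    intro g hg
    rw [low3H] at hg
    induction hg using Subgroup.closure_induction with
    | mem x hx =>
      obtain ⟨i, hi, rfl⟩ := hx
      have ht := htri i hi
      simp only [low3Tri, fz_eq, Nat.beq_eq] at ht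
      exact lowUni_of_mask (mul_rep (mul_rep rb (low3_rep hi (hlit i hi)).1) rbi) ht
    | one => simpa [hb] using lowUni_one
    | mul x y _ _ hx hy =>
      have := lowUni_mul hx hy
      rw [Units.val_mul]
      convert this using 1
      rw [show bas * (x : Mat) * basInv * (bas * (y : Mat) * basInv) =
        bas * ((x : Mat) * (basInv * bas) * (y : Mat)) * basInv by simp only [mul_assoc], hb', mul_one]
    | inv x _ hu =>
      set A := bas * (x : Mat) * basInv with hA
      have hpow : ∀ n, LowUni (A ^ n) := fun n => by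
        induction n with
        | zero => simpa using lowUni_one
        | succ n ih => rw [pow_succ]; exact lowUni_mul ih hu
      rw [inv_conj_eq x hb hb' (lowUni_pow_eq_one hu)]
      exact hpow 728
  intro g
  refine ⟨6, Subtype.ext ?_⟩
  have h1 := lowUni_pow_eq_one (key g g.2)
  have hconj : ∀ n, (bas * (g.1 : Mat) * basInv) ^ n = bas * (g.1 : Mat) ^ n * basInv := by
    intro n
    induction n with
    | zero => simp [hb]
    | succ n ih =>
      rw [pow_succ, ih, pow_succ, show bas * (g.1 : Mat) ^ n * basInv * (bas * (g.1 : Mat) * basInv) =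
        bas * ((g.1 : Mat) ^ n * (basInv * bas) * (g.1 : Mat)) * basInv by simp only [mul_assoc],
        hb', mul_one]
  rw [hconj] at h1
  have h2 : (g.1 : Mat) ^ 729 = 1 := by
    calc (g.1 : Mat) ^ 729 = (basInv * bas) * (g.1 : Mat) ^ 729 * (basInv * bas) := by
          rw [hb', one_mul, mul_one]
      _ = basInv * (bas * (g.1 : Mat) ^ 729 * basInv) * bas := by simp only [mul_assoc]
      _ = 1 := by rw [h1, mul_one, hb']
  rw [SubmonoidClass.coe_pow, OneMemClass.coe_one]
  exact units_pow_6 h2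

theorem three_part_of (hlit : ∀ i < 3, low3Lit i = true) (htri : ∀ i < 3, low3Tri i = true)
    (hbas : low3Basis = true) (hchain : low3Chain low3Steps = true) :
    59049 ∣ Nat.card rho.range := by
  have hp := isPGroup_low3H hlit htri hbas
  have hle := chain3_le hlit low3Steps low3H hchain (fun s hs => by
    refine Subgroup.list_prod_mem _ fun x hx => ?_
    rw [List.mem_map] at hx
    obtain ⟨l, hl, rfl⟩ := hx
    exact Subgroup.subset_closure ⟨l, low3Chain_words _ hchain s hs l hl, rfl⟩) hp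
  have : Fact (Nat.Prime 3) := ⟨Nat.prime_three⟩
  obtain ⟨a, ha⟩ := IsPGroup.iff_card.1 hp
  rw [ha] at hle
  have h10 : (10 : ℕ) ≤ a := (Nat.pow_le_pow_iff_right (by norm_num)).1 hle
  exact (pow_dvd_pow 3 h10).trans (ha ▸ Subgroup.card_dvd_of_le low3H_le)

end Th
end H93
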