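import Cfsg.Agent.H22.Th.Lower.Primes
import Cfsg.Agent.H93.Th.ThreePart
import Cfsg.Agent.H93.Th.Twist

/-!
The order of the Thompson group of matrices is a multiple of 90745943887872000, given its 2-part.
-/

set_option autoImplicit false

namespace H93
namespace Th

theorem nTh_dvd : 634023936 ∣ Nat.card rho.range := by
  have hinj := rho_iota_injective rho rho_of
  have h := Nat.card_congr (MonoidHom.ofInjective hinj).toEquiv
  rw [H22Th.card_P] at h
  rw [h]
  refine Subgroup.card_dvd_of_le ?_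
  rintro _ ⟨p, rfl⟩
  exact ⟨H22Th.iota p, rfl⟩

theorem lower_of_two (h2 : 32768 ∣ Nat.card rho.range) :
    90745943887872000 ∣ Nat.card rho.range := by
  have h3 := three_part
  have h5 := H22Th.Lower.five_cube_dvd
  have h19 := H22Th.Lower.nineteen_dvd
  have h31 := H22Th.Lower.thirtyone_dvd
  have h7 : 637 ∣ Nat.card rho.range := dvd_trans (by norm_num) nTh_dvd
  have e : 90745943887872000 = 32768 * 59049 * 637 * 125 * 19 * 31 := by norm_num
  rw [e]
  refine Nat.Coprime.mul_dvd_of_dvd_of_dvd (by norm_num) ?_ h31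
  refine Nat.Coprime.mul_dvd_of_dvd_of_dvd (by norm_num) ?_ h19
  refine Nat.Coprime.mul_dvd_of_dvd_of_dvd (by norm_num) ?_ h5
  refine Nat.Coprime.mul_dvd_of_dvd_of_dvd (by norm_num) ?_ h7
  exact Nat.Coprime.mul_dvd_of_dvd_of_dvd (by norm_num) h2 h3

end Th
end H93
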